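import Mathlib
import Cfsg.Agent.Lib.Helper60.NseM11.Defs

set_option autoImplicit false

/-!
# S3592, package (SIMP)

A group of order `7920` whose numbers of elements of each order lie in
`{1, 165, 440, 990, 1584, 1320, 1980, 1440}` is simple (given Frobenius for `p = 3` and the
centralizer package).
-/

universe u

namespace Cfsg.Agent.Lib.Helper52.NseM11

open Cfsg.Agent.Lib.Helper60.NseM11

variable {G : Type u} [Group G]

/-- a Sylow `p`-subgroup has order `p` if `p` divides the group order exactly once -/
theorem sylow_card_prime [Finite G] {p : ℕ} [Fact p.Prime] (hp : p ∣ Nat.card G)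
    (hp2 : ¬ p ^ 2 ∣ Nat.card G) (P : Sylow p G) : Nat.card (P : Subgroup G) = p := by
  obtain ⟨k, hk⟩ := IsPGroup.iff_card.mp P.isPGroup'
  have hdvd : Nat.card (P : Subgroup G) ∣ Nat.card G := Subgroup.card_subgroup_dvd_card _
  have hidx := P.not_dvd_index
  have hmul := Subgroup.card_mul_index (P : Subgroup G)
  rcases k with _ | _ | k
  · exfalso
    rw [pow_zero] at hk
    rw [hk, one_mul] at hmul
    rw [hmul] at hidx
    exact hidx hp
  · simpa using hk
  · exfalso
    apply hp2
    rw [hk] at hdvd
    exact (pow_dvd_pow p (by omega)).trans hdvd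

/-- if the Sylow `p`-subgroups have order `p`, there are `n_p * (p - 1)` elements of order `p`
(the argument of `Cfsg.Agent.Lib.Helper91.M11.card_orderOf_eq_prime`) -/
theorem card_orderOf_prime_aux [Finite G] {p : ℕ} [Fact p.Prime]
    (hS : ∀ P : Sylow p G, Nat.card (P : Subgroup G) = p) :
    Nat.card {x : G // orderOf x = p} = Nat.card (Sylow p G) * (p - 1) := by
  classical
  have : Fintype G := Fintype.ofFinite G
  have : Fintype (Sylow p G) := Fintype.ofFinite _
  have hp := (Fact.out : p.Prime)
  have key : ∀ P : Sylow p G, ∀ x : G, x ∈ (P : Subgroup G) → x ≠ 1 → orderOf x = p := by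
    intro P x hxP hx1
    have hdvd : orderOf x ∣ p := by
      have := Subgroup.orderOf_dvd_natCard (P : Subgroup G) hxP
      rwa [hS P] at this
    rcases (Nat.dvd_prime hp).1 hdvd with h | h
    · exact absurd (orderOf_eq_one_iff.1 h) hx1
    · exact h
  rw [Nat.card_eq_fintype_card, Fintype.card_subtype]
  have hU : Finset.univ.filter (fun x : G => orderOf x = p) =
      Finset.univ.biUnion (fun P : Sylow p G =>
        (Finset.univ.filter (fun g : G => g ∈ (P : Subgroup G))).erase 1) := by
    ext x
    simp only [Finset.mem_filter, Finset.mem_univ, true_and, Finset.mem_biUnion,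
      Finset.mem_erase]
    constructor
    · intro hx
      have hpg : IsPGroup p (Subgroup.zpowers x) :=
        IsPGroup.of_card (n := 1) (by rw [Nat.card_zpowers, hx, pow_one])
      obtain ⟨P, hP⟩ := hpg.exists_le_sylow
      refine ⟨P, ?_, hP (Subgroup.mem_zpowers x)⟩
      rintro rfl
      rw [orderOf_one] at hx
      exact hp.one_lt.ne hx
    · rintro ⟨P, hx1, hxP⟩
      exact key P x hxP hx1
  rw [hU, Finset.card_biUnion]
  · have h10 : ∀ P : Sylow p G,
        ((Finset.univ.filter (fun g : G => g ∈ (P : Subgroup G))).erase 1).card = p - 1 := by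
      intro P
      rw [Finset.card_erase_of_mem (by simp [one_mem])]
      have h11 := hS P
      rw [Nat.card_eq_fintype_card, Fintype.card_subtype] at h11
      rw [h11]
    rw [Finset.sum_congr rfl (fun P _ => h10 P), Finset.sum_const, Finset.card_univ,
      ← Nat.card_eq_fintype_card, smul_eq_mul]
  · intro P _ P' _ hne
    rw [Function.onFun, Finset.disjoint_left]
    intro x hx hx'
    simp only [Finset.mem_erase, Finset.mem_filter, Finset.mem_univ, true_and] at hx hx'
    apply hne
    have hox : orderOf x = p := key P x hx.2 hx.1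
    have h1 : Subgroup.zpowers x = (P : Subgroup G) :=
      Subgroup.eq_of_le_of_card_ge ((Subgroup.zpowers_le).2 hx.2)
        (by rw [Nat.card_zpowers, hox, hS P])
    have h2 : Subgroup.zpowers x = (P' : Subgroup G) :=
      Subgroup.eq_of_le_of_card_ge ((Subgroup.zpowers_le).2 hx'.2)
        (by rw [Nat.card_zpowers, hox, hS P'])
    exact Sylow.ext (h1.symm.trans h2)

/-- a normal subgroup of order divisible by `p` contains every element of order `p`, if the
Sylow `p`-subgroups have order `p` -/
theorem mem_normal_of_orderOf [Finite G] {p : ℕ} [Fact p.Prime]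
    (hS : ∀ P : Sylow p G, Nat.card (P : Subgroup G) = p)
    (N : Subgroup G) (hN : N.Normal) (hpN : p ∣ Nat.card N) (x : G) (hx : orderOf x = p) :
    x ∈ N := by
  obtain ⟨y, hy⟩ := exists_prime_orderOf_dvd_card' (G := N) p hpN
  have hy' : orderOf (y : G) = p := by rw [Subgroup.orderOf_coe]; exact hy
  have hpx : IsPGroup p (Subgroup.zpowers x) :=
    IsPGroup.of_card (n := 1) (by rw [Nat.card_zpowers, hx, pow_one])
  have hpy : IsPGroup p (Subgroup.zpowers (y : G)) :=
    IsPGroup.of_card (n := 1) (by rw [Nat.card_zpowers, hy', pow_one])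
  obtain ⟨P, hP⟩ := hpx.exists_le_sylow
  obtain ⟨Q, hQ⟩ := hpy.exists_le_sylow
  have hQe : Subgroup.zpowers (y : G) = (Q : Subgroup G) :=
    Subgroup.eq_of_le_of_card_ge hQ (by rw [Nat.card_zpowers, hy', hS Q])
  have hQN : (Q : Subgroup G) ≤ N := by
    rw [← hQe, Subgroup.zpowers_le]
    exact y.2
  obtain ⟨g, hg⟩ := MulAction.exists_smul_eq G Q P
  have hxP : x ∈ (P : Subgroup G) := hP (Subgroup.mem_zpowers x)
  rw [← hg, Sylow.coe_subgroup_smul, Subgroup.mem_pointwise_smul_iff_inv_smul_mem] at hxP
  simp only [MulAut.smul_def, MulAut.conj_inv_apply] at hxP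
  have h1 : g⁻¹ * x * g ∈ N := hQN hxP
  have h2 := hN.conj_mem _ h1 g
  have h3 : g * (g⁻¹ * x * g) * g⁻¹ = x := by group
  rw [h3] at h2
  exact h2

/-- counting elements of a given order inside a subgroup containing all of them -/
theorem card_sub_orderOf (N : Subgroup G) (p : ℕ) (hall : ∀ x : G, orderOf x = p → x ∈ N) :
    Nat.card {x : N // orderOf x = p} = Nat.card {x : G // orderOf x = p} := by
  refine Nat.card_congr ⟨fun x => ⟨(x.1 : G), by rw [Subgroup.orderOf_coe]; exact x.2⟩,
    fun x => ⟨⟨x.1, hall x.1 x.2⟩, by rw [← Subgroup.orderOf_coe]; exact x.2⟩, ?_, ?_⟩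
  · intro x
    rfl
  · intro x
    rfl

theorem pkgSimple (hF : PkgFrob3.{u}) (hC : PkgCent.{u}) : PkgSimple.{u} := by
  intro G _ _ hG hL
  have : Fact (Nat.Prime 11) := ⟨by norm_num⟩
  have : Fact (Nat.Prime 5) := ⟨by norm_num⟩
  have hS11 : ∀ P : Sylow 11 G, Nat.card (P : Subgroup G) = 11 := fun P =>
    sylow_card_prime (by rw [hG]; norm_num) (by rw [hG]; norm_num) P
  have hS5 : ∀ P : Sylow 5 G, Nat.card (P : Subgroup G) = 5 := fun P =>
    sylow_card_prime (by rw [hG]; norm_num) (by rw [hG]; norm_num) P
  have hc11 : Nat.card {x : G // orderOf x = 11} = Nat.card (Sylow 11 G) * 10 :=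
    card_orderOf_prime_aux hS11
  have hc5 : Nat.card {x : G // orderOf x = 5} = Nat.card (Sylow 5 G) * 4 :=
    card_orderOf_prime_aux hS5
  have hn11 : Nat.card (Sylow 11 G) = 144 := by
    have hmod : Nat.card (Sylow 11 G) % 11 = 1 := card_sylow_modEq_one 11 G
    have hpos : 0 < Nat.card (Sylow 11 G) := Nat.card_pos
    have hmem := hL 11 (by rw [hc11]; omega)
    rw [hc11] at hmem
    simp only [Set.mem_insert_iff, Set.mem_singleton_iff] at hmem
    omega
  have hn5 : Nat.card (Sylow 5 G) = 396 := by
    have hmod : Nat.card (Sylow 5 G) % 5 = 1 := card_sylow_modEq_one 5 G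
    have hpos : 0 < Nat.card (Sylow 5 G) := Nat.card_pos
    have hmem := hL 5 (by rw [hc5]; omega)
    rw [hc5] at hmem
    simp only [Set.mem_insert_iff, Set.mem_singleton_iff] at hmem
    omega
  have hc3 : Nat.card {x : G // orderOf x = 3} = 440 := by
    have h3 : Nat.card {x : G // orderOf x = 3} % 3 = 2 := hF (by rw [hG]; norm_num)
    have hpos : 0 < Nat.card {x : G // orderOf x = 3} := by
      by_contra h
      have h0 : Nat.card {x : G // orderOf x = 3} = 0 := by omega
      rw [h0] at h3
      omega
    have hmem := hL 3 hpos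
    simp only [Set.mem_insert_iff, Set.mem_singleton_iff] at hmem
    omega
  have hnt : Nontrivial G := by
    rw [← Finite.one_lt_card_iff_nontrivial, hG]
    norm_num
  refine { toNontrivial := hnt, eq_bot_or_eq_top_of_normal := ?_ }
  intro N hN
  by_contra hcon
  push Not at hcon
  obtain ⟨hNbot, hNtop⟩ := hcon
  have hNdvd : Nat.card N ∣ 7920 := hG ▸ Subgroup.card_subgroup_dvd_card N
  -- the case `11 ∣ |N|`
  have h11 : ¬ 11 ∣ Nat.card N := by
    intro h11
    have hall : ∀ x : G, orderOf x = 11 → x ∈ N := mem_normal_of_orderOf hS11 N hN h11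
    have hcN : Nat.card {x : N // orderOf x = 11} = 1440 := by
      rw [card_sub_orderOf N 11 hall, hc11, hn11]
    have hSN : ∀ P : Sylow 11 N, Nat.card (P : Subgroup N) = 11 := fun P =>
      sylow_card_prime h11 (fun h => by
        have h1 := h.trans hNdvd
        norm_num at h1) P
    have hcN' := card_orderOf_prime_aux hSN
    rw [hcN] at hcN'
    have hnN : Nat.card (Sylow 11 N) = 144 := by omega
    have h144 : 144 ∣ Nat.card N := by
      obtain ⟨P⟩ : Nonempty (Sylow 11 N) := inferInstance
      have h1 := Sylow.card_dvd_index P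
      rw [hnN] at h1
      exact h1.trans (Subgroup.index_dvd_card _)
    have h1584 : 1584 ∣ Nat.card N := by
      have hcop : Nat.Coprime 144 11 := by norm_num
      exact hcop.mul_dvd_of_dvd_of_dvd h144 h11
    obtain ⟨k, hk⟩ := h1584
    have hk5 : k ∣ 5 := by
      rw [hk] at hNdvd
      exact Nat.dvd_of_mul_dvd_mul_left (by norm_num : 0 < 1584) hNdvd
    rcases (Nat.dvd_prime Nat.prime_five).mp hk5 with rfl | rfl
    · -- `|N| = 1584`, of index `5`
      have hidx : N.index = 5 := by
        have h1 := Subgroup.card_mul_index N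
        rw [hk, hG] at h1
        omega
      have h3in : ∀ x : G, orderOf x = 3 → x ∈ N := by
        intro x hx
        have h5 : x ^ 5 ∈ N := by
          have h1 := Subgroup.pow_index_mem N x
          rwa [hidx] at h1
        have h6 : x ^ 6 = 1 := by
          have h1 : x ^ 3 = 1 := by rw [← hx]; exact pow_orderOf_eq_one x
          rw [show 6 = 3 * 2 by norm_num, pow_mul, h1, one_pow]
        have h7 : x = (x ^ 5)⁻¹ := by
          rw [eq_inv_iff_mul_eq_one, ← pow_succ', h6]
        rw [h7]
        exact N.inv_mem h5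
      have hsub : {x : G | orderOf x = 3} ∪ {x : G | orderOf x = 11} ⊆ (N : Set G) := by
        rintro x (hx | hx)
        · exact h3in x hx
        · exact hall x hx
      have hle := Set.ncard_le_ncard hsub (Set.toFinite _)
      have hdisj : Disjoint {x : G | orderOf x = 3} {x : G | orderOf x = 11} := by
        rw [Set.disjoint_left]
        intro x hx hx'
        rw [Set.mem_ofPred_eq] at hx hx'
        omega
      rw [Set.ncard_union_eq hdisj (Set.toFinite _) (Set.toFinite _)] at hle
      have e3 : Set.ncard {x : G | orderOf x = 3} = 440 := by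
        rw [← hc3]
        exact (Nat.card_coe_set_eq {x : G | orderOf x = 3}).symm
      have e11 : Set.ncard {x : G | orderOf x = 11} = 1440 := by
        have h1 : Nat.card {x : G // orderOf x = 11} = 1440 := by rw [hc11, hn11]
        rw [← h1]
        exact (Nat.card_coe_set_eq {x : G | orderOf x = 11}).symm
      have eN : Set.ncard (N : Set G) = Nat.card N := (Nat.card_coe_set_eq (N : Set G)).symm
      rw [e3, e11, eN, hk] at hle
      omega
    · -- `|N| = 7920`
      apply hNtop
      exact Subgroup.eq_top_of_card_eq N (by rw [hk, hG])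
  -- the case `5 ∣ |N|`
  have h5 : ¬ 5 ∣ Nat.card N := by
    intro h5
    have hall : ∀ x : G, orderOf x = 5 → x ∈ N := mem_normal_of_orderOf hS5 N hN h5
    have hcN : Nat.card {x : N // orderOf x = 5} = 1584 := by
      rw [card_sub_orderOf N 5 hall, hc5, hn5]
    have hSN : ∀ P : Sylow 5 N, Nat.card (P : Subgroup N) = 5 := fun P =>
      sylow_card_prime h5 (fun h => by
        have h1 := h.trans hNdvd
        norm_num at h1) P
    have hcN' := card_orderOf_prime_aux hSN
    rw [hcN] at hcN'
    have hnN : Nat.card (Sylow 5 N) = 396 := by omega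
    have h396 : 396 ∣ Nat.card N := by
      obtain ⟨P⟩ : Nonempty (Sylow 5 N) := inferInstance
      have h1 := Sylow.card_dvd_index P
      rw [hnN] at h1
      exact h1.trans (Subgroup.index_dvd_card _)
    exact h11 ((by norm_num : 11 ∣ 396).trans h396)
  -- now `|N|` divides `144`
  have h144 : Nat.card N ∣ 144 := by
    have hc5' : Nat.Coprime (Nat.card N) 5 :=
      ((Nat.Prime.coprime_iff_not_dvd Nat.prime_five).mpr h5).symm
    have hc11' : Nat.Coprime (Nat.card N) 11 :=
      ((Nat.Prime.coprime_iff_not_dvd (by norm_num : Nat.Prime 11)).mpr h11).symm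
    have hcop : Nat.Coprime (Nat.card N) (5 * 11) := Nat.Coprime.mul_right hc5' hc11'
    have h1 : Nat.card N ∣ 144 * (5 * 11) := by
      norm_num
      exact hNdvd
    exact hcop.dvd_of_dvd_mul_right h1
  obtain ⟨x, hx⟩ := exists_prime_orderOf_dvd_card' (G := G) 11 (by rw [hG]; norm_num)
  have hcent := hC N hN h144 x hx
  have hpx : IsPGroup 11 (Subgroup.zpowers x) :=
    IsPGroup.of_card (n := 1) (by rw [Nat.card_zpowers, hx, pow_one])
  obtain ⟨P, hP⟩ := hpx.exists_le_sylow
  have hPe : Subgroup.zpowers x = (P : Subgroup G) :=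
    Subgroup.eq_of_le_of_card_ge hP (by rw [Nat.card_zpowers, hx, hS11 P])
  have hNle : N ≤ Subgroup.normalizer ((P : Subgroup G) : Set G) := by
    refine le_trans ?_ (Subgroup.centralizer_le_normalizer _)
    intro n hn
    rw [Subgroup.mem_centralizer_iff]
    intro z hz
    rw [SetLike.mem_coe, ← hPe] at hz
    obtain ⟨k, rfl⟩ := Subgroup.mem_zpowers_iff.mp hz
    have h1 : Commute x n := hcent n hn
    exact (h1.zpow_left k).eq
  have hnorm : Nat.card (Subgroup.normalizer ((P : Subgroup G) : Set G)) = 55 := by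
    have h1 : Nat.card (Sylow 11 G) =
        (Subgroup.normalizer ((P : Subgroup G) : Set G)).index :=
      Sylow.card_eq_index_normalizer P
    have h2 := Subgroup.card_mul_index (Subgroup.normalizer ((P : Subgroup G) : Set G))
    rw [← h1, hn11, hG] at h2
    omega
  have hd55 : Nat.card N ∣ 55 := by
    rw [← hnorm]
    exact Subgroup.card_dvd_of_le hNle
  have hg : Nat.card N ∣ Nat.gcd 144 55 := Nat.dvd_gcd h144 hd55
  have h1 : Nat.card N = 1 := by
    have h2 : Nat.gcd 144 55 = 1 := by norm_num
    rw [h2] at hg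
    exact Nat.dvd_one.mp hg
  exact hNbot (Subgroup.card_eq_one.mp h1)

end Cfsg.Agent.Lib.Helper52.NseM11
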